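import Groth.Agent.Lib.HomShExact13.Dual

/-!
# Vanishing of the first Ext sheaf from local lifting
-/

set_option autoImplicit false
set_option backward.isDefEq.respectTransparency false
set_option linter.all false

universe u

open CategoryTheory CategoryTheory.Limits Opposite

noncomputable section

namespace GrothLib.ExtShGa6

variable {C : Type (u + 1)} [Category.{u} C] (J : GrothendieckTopology C)
  [HasSheafify J AddCommGrpCat.{u + 1}] [HasInjectiveResolutions (Sheaf J AddCommGrpCat.{u + 1})]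

/-- The first Ext sheaf vanishes if the internal Hom keeps quotients by the second argument epi. -/
theorem isZero_extSh_one (F₀ M : Sheaf J AddCommGrpCat.{u + 1})
    (h : ∀ {B Q : Sheaf J AddCommGrpCat.{u + 1}} (i : M ⟶ B) (π : B ⟶ Q) (w : i ≫ π = 0),
      (ShortComplex.mk i π w).ShortExact → Epi (HomSh.homShMap J (𝟙 F₀) π)) :
    IsZero ((HomSh.extSh J F₀ 1).obj M) := by
  let F := HomSh.homShFunctor J F₀
  rw [HomSh.extSh_def]
  let P : InjectiveResolution M := injectiveResolution _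
  refine IsZero.of_iso ?_ (P.isoRightDerivedObj F 1)
  rw [HomologicalComplex.homologyFunctor_obj, ← HomologicalComplex.exactAt_iff_isZero_homology,
    HomologicalComplex.exactAt_iff' _ 0 1 2 (by simp) (by simp), ShortComplex.exact_iff_exact_up_to_refinements]
  intro A a ha
  have hι : (ShortComplex.mk _ _ P.ι_f_zero_comp_complex_d).Exact :=
    ShortComplex.exact_of_f_is_kernel _ P.isLimitKernelFork
  let π₀ := cokernel.π (P.ι.f 0)
  let j : cokernel (P.ι.f 0) ⟶ P.cocomplex.X 1 := cokernel.desc _ _ P.ι_f_zero_comp_complex_d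
  haveI : Mono j := hι.mono_cokernelDesc
  have hj : π₀ ≫ j = P.cocomplex.d 0 1 := cokernel.π_desc _ _ _
  let S₂ := ShortComplex.mk j (P.cocomplex.d 1 2) (by
    rw [← cancel_epi π₀, reassoc_of% hj, HomologicalComplex.d_comp_d, comp_zero])
  have hS₂ : S₂.Exact := by
    let φ : ShortComplex.mk (P.cocomplex.d 0 1) (P.cocomplex.d 1 2) (P.cocomplex.d_comp_d 0 1 2) ⟶ S₂ :=
      { τ₁ := π₀, τ₂ := 𝟙 _, τ₃ := 𝟙 _, comm₁₂ := by simp [S₂, hj], comm₂₃ := by simp [S₂] }
    haveI : Epi φ.τ₁ := inferInstanceAs (Epi π₀)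
    haveI : IsIso φ.τ₂ := inferInstanceAs (IsIso (𝟙 _))
    haveI : Mono φ.τ₃ := inferInstanceAs (Mono (𝟙 _))
    exact (ShortComplex.exact_iff_of_epi_of_isIso_of_mono φ).1 (P.exact_succ 0)
  have hFS := GrothLib.HomShExact13.exact_homShMap_right F₀ hS₂ (inferInstanceAs (Mono j))
  haveI : Mono (S₂.map F).f := GrothLib.HomShExact13.mono_homShMap_right F₀ j
  let b : A ⟶ F.obj (cokernel (P.ι.f 0)) := hFS.lift a ha
  have hb : b ≫ F.map j = a := hFS.lift_f a ha
  haveI : Epi (F.map π₀) := h (P.ι.f 0) π₀ (cokernel.condition _)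
    { exact := ShortComplex.exact_cokernel _ }
  obtain ⟨A', π', hπ', y, hy⟩ := surjective_up_to_refinements_of_epi (F.map π₀) b
  refine ⟨A', π', hπ', y, ?_⟩
  show π' ≫ a = y ≫ F.map (P.cocomplex.d 0 1)
  rw [← hb, reassoc_of% hy, ← Functor.map_comp, hj]

end GrothLib.ExtShGa6
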