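import Groth.Agent.Lib.ExtShGa6.Local
import Groth.Agent.Lib.ExtShGa6.Gen

/-!
# The first Ext sheaf of the additive by the multiplicative group in positive characteristic
-/

set_option autoImplicit false
set_option backward.isDefEq.respectTransparency false
set_option backward.isDefEq.respectTransparency.types false
set_option linter.all false
set_option maxHeartbeats 400000
set_option synthInstance.maxHeartbeats 200000

universe u

open CategoryTheory CategoryTheory.Limits AlgebraicGeometry Opposite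
open GrothLib.GaDualQ13 (GaSh GmSh)
open GrothLib.FppfH90Sch6 (OU oι)

noncomputable section

namespace GrothLib.ExtShGa6

local notation "fppf" => Scheme.fppfPrecoverage

variable {X : Scheme.{u}} (p : ℕ) [Fact p.Prime] (hp : (p : Γ(X, ⊤)) = 0)
include hp

/-- Composing homomorphisms from the additive group with a quotient by the multiplicative group is epi. -/
theorem epi_homShMap {B Q : BigSite.Ab fppf X} (i : GmSh X ⟶ B) (π : B ⟶ Q) (w : i ≫ π = 0)
    (hC : (ShortComplex.mk i π w).ShortExact) :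
    Epi (HomSh.homShMap (QuotSh.J fppf X) (𝟙 (GaSh X)) π) := by
  let J := QuotSh.J fppf X
  let Ψ := HomSh.homShMap J (𝟙 (GaSh X)) π
  suffices Sheaf.IsLocallySurjective Ψ from (Sheaf.isLocallySurjective_iff_epi' (φ := Ψ)).1 this
  refine ⟨fun {T} φ => ?_⟩
  have hU : ∀ x : T.left, ∃ U : T.left.Opens, IsAffineOpen U ∧ x ∈ U := fun x => by
    obtain ⟨_, ⟨U, hU, rfl⟩, hx, -⟩ := T.left.isBasis_affineOpens.exists_subset_of_mem_open (Set.mem_univ x) isOpen_univ
    exact ⟨U, hU, hx⟩
  choose U hUa hxU using hU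
  haveI : ∀ x : T.left, IsOpenImmersion (oι T (U x)).left := fun x => inferInstanceAs (IsOpenImmersion (U x).ι)
  refine J.transitive (GrothLib.AdeqMod20.mem_J_of_opens_arrows (fun x => oι T (U x)) fun x => ⟨x, ⟨x, hxU x⟩, rfl⟩) _
    ?_
  rintro V _ ⟨W, a, _, ⟨x⟩, rfl⟩
  rw [Sieve.pullback_comp]
  refine J.pullback_stable a ?_
  haveI : IsAffine (OU T (U x)).left := hUa x
  haveI : Nonempty ((⊤ : (OU T (U x)).left.Opens) : Set (OU T (U x)).left) := ⟨⟨⟨x, hxU x⟩, trivial⟩⟩
  haveI : Nontrivial Γ((OU T (U x)).left, ⊤) := inferInstance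
  obtain ⟨T₂, h, hflat, hlfp, hsurj, ψ, hψ⟩ := exists_split (OU T (U x)) p hp i π w hC
    ((HomSh.homSh J (GaSh X) Q).obj.map (oι T (U x)).op φ)
  haveI := hflat
  haveI := hlfp
  haveI := hsurj
  refine J.superset_covering ?_ (GrothLib.FppfH90Sch6.sieve_mem_single h)
  refine (Sieve.generate_le_iff _ _).2 ?_
  rintro _ _ ⟨⟩
  refine ⟨ψ, ?_⟩
  refine Sheaf.hom_ext (NatTrans.ext (funext fun Z => AddCommGrpCat.ext fun s => ?_))
  refine (hψ (unop Z).left (unop Z).hom s).trans ?_
  exact HomSh.app_over_mk_congr J φ (Category.assoc _ _ _) s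

/-- The Ext sheaf vanishes. -/
theorem isZero_extSh :
    IsZero ((HomSh.extSh (QuotSh.J fppf X) (GaSh X) 1).obj (GmSh X)) :=
  isZero_extSh_one (QuotSh.J fppf X) (GaSh X) (GmSh X) fun i π w hC => epi_homShMap p hp i π w hC

end GrothLib.ExtShGa6
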