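import Groth.Agent.Lib.FppfH90Sch6.Main

/-!
# The obstruction cocycle to lifting a section of a quotient by the multiplicative group
-/

set_option autoImplicit false
set_option backward.isDefEq.respectTransparency false
set_option backward.isDefEq.respectTransparency.types false
set_option linter.all false
set_option maxHeartbeats 1000000

universe u

open CategoryTheory CategoryTheory.Limits Opposite AlgebraicGeometry TopologicalSpace
open GrothLib.GaDualQ13 (GmSh gmSec gmVal gmVal_gmSec gmVal_injective gmVal_add gmVal_zero isUnit_gmVal gmVal_map)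
open GrothLib.Ample (Cocycle res res_res res_self)
open GrothLib.FppfH90Sch6

noncomputable section

namespace GrothLib.ExtShGa6

local notation "fppf" => Scheme.fppfPrecoverage

variable {X : Scheme.{u}} {B D : BigSite.Ab fppf X} (f : GmSh X ⟶ B) (g : B ⟶ D) (w : f ≫ g = 0)
  (hC : (ShortComplex.mk f g w).ShortExact)

include hC

/-- A cocycle obstructs lifting, exactly, after every base change. -/
theorem exists_obstruction {Y : Over X} (s : D.obj.obj (op Y)) :
    ∃ c : Cocycle Y.left, (∀ {S₀ : Over X} (z : S₀ ⟶ Y),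
      (∃ t₀, g.hom.app (op S₀) t₀ = D.obj.map z.op s) → GrothLib.Cube.Triv (c.comap z.left)) ∧
      ∀ {S₀ : Over X} (z : S₀ ⟶ Y), GrothLib.Cube.Triv (c.comap z.left) →
        ∃ t₀, g.hom.app (op S₀) t₀ = D.obj.map z.op s := by
  choose U z hxU hz using exists_lift_open f g w hC s
  have hker : ∀ (i k : Y.left) (W : Y.left.Opens) (hi : W ≤ U i) (hk : W ≤ U k),
      ∃ v, f.hom.app (op (OU Y W)) v = B.obj.map (oHom hi).op (z i) - B.obj.map (oHom hk).op (z k) := by
    intro i k W hi hk
    refine (g_eq_zero_iff f g w hC _ _).1 ?_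
    rw [map_sub, NatTrans.naturality_apply, NatTrans.naturality_apply, hz, hz, GrothLib.AdeqMod20.map_comp_app,
      GrothLib.AdeqMod20.map_comp_app, oHom_oι, oHom_oι, sub_self]
  choose v hv using hker
  have hmap : ∀ (F : BigSite.Ab fppf X) {O O' O'' : Y.left.Opens} (h : O' ≤ O) (h' : O'' ≤ O')
      (a : F.obj.obj (op (OU Y O))),
      F.obj.map (oHom h').op (F.obj.map (oHom h).op a) = F.obj.map (oHom (h'.trans h)).op a := by
    intro F O O' O'' h h' a
    rw [GrothLib.AdeqMod20.map_comp_app]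
    refine congrArg (fun m => F.obj.map (Quiver.Hom.op m) a) (hom_ext_oι ?_)
    rw [Category.assoc, oHom_oι, oHom_oι, oHom_oι]
  have hres : ∀ (i k : Y.left) (W W' : Y.left.Opens) (hi : W ≤ U i) (hk : W ≤ U k) (hW : W' ≤ W),
      (GmSh X).obj.map (oHom hW).op (v i k W hi hk) = v i k W' (hW.trans hi) (hW.trans hk) := by
    intro i k W W' hi hk hW
    apply f_injective f g w hC
    rw [hv, NatTrans.naturality_apply, hv, map_sub, hmap, hmap]
  let U' : Y.left → Y.left.Opens := U
  have hG : ∀ (i k : Y.left) (W : Y.left.Opens) (hi : W ≤ U i) (hk : W ≤ U k),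
      res (le_inf hi hk) (valO (v i k (U i ⊓ U k) inf_le_left inf_le_right)) = valO (v i k W hi hk) :=
    fun i k W hi hk => by
    rw [← valO_map (le_inf hi hk), hres i k _ W inf_le_left inf_le_right (le_inf hi hk)]
  let c : Cocycle Y.left :=
    { ι := Y.left
      D := U
      g := fun i k => valO (v i k (U i ⊓ U k) inf_le_left inf_le_right)
      cover := eq_top_iff.mpr fun x _ => Opens.mem_iSup.mpr ⟨x, hxU x⟩
      self := fun i W hi => by
        rw [hG i i W hi hi]
        have : v i i W hi hi = 0 := f_injective f g w hC _ (by rw [hv, map_zero, sub_self])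
        rw [this]
        exact (congrArg W.topIso.hom gmVal_zero).trans (map_one _)
      change := fun i k l W hi hk hl => by
        rw [hG i l W hi hl, hG i k W hi hk, hG k l W hk hl, ← valO_add]
        refine congrArg valO (f_injective f g w hC _ ?_)
        rw [map_add, hv, hv, hv]
        abel }
  have hcomap : ∀ {S₀ : Over X} (σ : S₀ ⟶ Y),
      (∃ t₀, g.hom.app (op S₀) t₀ = D.obj.map σ.op s) → GrothLib.Cube.Triv (c.comap σ.left) := by
    rintro S₀ σ ⟨t₀, ht₀⟩
    let V : Y.left → S₀.left.Opens := fun i => σ.left ⁻¹ᵁ U i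
    let m : ∀ (i : Y.left) (W : S₀.left.Opens), W ≤ V i → (OU S₀ W ⟶ OU Y (U i)) := fun i W e =>
      Over.homMk (σ.left.resLE (U i) W e) (by
        change σ.left.resLE (U i) W e ≫ (U i).ι ≫ Y.hom = W.ι ≫ S₀.hom
        rw [← Category.assoc, Scheme.Hom.resLE_comp_ι, Category.assoc, Over.w σ])
    have hm : ∀ i W e, m i W e ≫ oι Y (U i) = oι S₀ W ≫ σ := fun i W e =>
      Over.OverMorphism.ext (Scheme.Hom.resLE_comp_ι _ _)
    have hw' : ∀ i, ∃ b, f.hom.app (op (OU S₀ (V i))) b =
        B.obj.map (m i (V i) le_rfl).op (z i) - B.obj.map (oι S₀ (V i)).op t₀ := fun i => by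
      refine (g_eq_zero_iff f g w hC _ _).1 ?_
      rw [map_sub, NatTrans.naturality_apply, NatTrans.naturality_apply, hz, ht₀, GrothLib.AdeqMod20.map_comp_app,
        GrothLib.AdeqMod20.map_comp_app, hm, sub_self]
    choose b hb using hw'
    let d : ∀ i, Γ(S₀.left, ⊤ ⊓ V i) := fun i => res inf_le_right (valO (b i))
    have hmem : d ∈ (c.comap σ.left).sect 1 ⊤ := fun i k W hi hk => by
      have hi' : W ≤ V i := hi.trans inf_le_right
      have hk' : W ≤ V k := hk.trans inf_le_right
      let m₂ : OU S₀ W ⟶ OU Y (U i ⊓ U k) := Over.homMk (σ.left.resLE (U i ⊓ U k) W (le_inf hi' hk')) (by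
        change σ.left.resLE (U i ⊓ U k) W _ ≫ (U i ⊓ U k).ι ≫ Y.hom = W.ι ≫ S₀.hom
        rw [← Category.assoc, Scheme.Hom.resLE_comp_ι, Category.assoc, Over.w σ])
      have e1 : ∀ (j : Y.left) (hj : U i ⊓ U k ≤ U j) (hj' : W ≤ V j),
          oHom hj' ≫ m j (V j) le_rfl = m₂ ≫ oHom hj := fun j hj hj' => hom_ext_oι (by
        rw [Category.assoc, Category.assoc, hm, oHom_oι, ← Category.assoc, oHom_oι]
        exact (Over.OverMorphism.ext (Scheme.Hom.resLE_comp_ι _ _).symm))
      have key : (GmSh X).obj.map (oHom hi').op (b i) =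
          (GmSh X).obj.map m₂.op (v i k (U i ⊓ U k) inf_le_left inf_le_right) +
            (GmSh X).obj.map (oHom hk').op (b k) := by
        apply f_injective f g w hC
        rw [map_add, NatTrans.naturality_apply, NatTrans.naturality_apply, NatTrans.naturality_apply, hb, hb, hv,
          map_sub, map_sub, map_sub]
        simp only [GrothLib.AdeqMod20.map_comp_app, e1 i inf_le_left hi', e1 k inf_le_right hk', oHom_oι]
        abel
      have k' := congrArg valO key
      rw [valO_add, valO_map, valO_map, valO_resLE σ (le_inf hi' hk') m₂ rfl] at k'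
      rw [pow_one]
      refine ((res_res _ _ _).trans k').trans (congrArg₂ (· * ·) ?_ (res_res _ _ _).symm)
      exact (GrothLib.PicDescent.comap_G' c σ.left i k hi' hk').symm
    refine ⟨⟨d, hmem⟩, (c.comap σ.left).locus_eq_top_of_isUnit _ fun i => ?_⟩
    exact ((isUnit_gmVal (b i)).map (V i).topIso.hom.hom).map (res inf_le_right)
  refine ⟨c, fun σ h => hcomap σ h, fun {S₀} σ hT => ?_⟩
  obtain ⟨a, ha⟩ := hT
  let V : Y.left → S₀.left.Opens := fun i => σ.left ⁻¹ᵁ U i
  let m : ∀ (i : Y.left) (W : S₀.left.Opens), W ≤ V i → (OU S₀ W ⟶ OU Y (U i)) := fun i W e =>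
    Over.homMk (σ.left.resLE (U i) W e) (by
      change σ.left.resLE (U i) W e ≫ (U i).ι ≫ Y.hom = W.ι ≫ S₀.hom
      rw [← Category.assoc, Scheme.Hom.resLE_comp_ι, Category.assoc, Over.w σ])
  have hm : ∀ i W e, m i W e ≫ oι Y (U i) = oι S₀ W ≫ σ := fun i W e =>
    Over.OverMorphism.ext (Scheme.Hom.resLE_comp_ι _ _)
  have hu : ∀ i, IsUnit ((V i).topIso.inv (res (le_inf le_top le_rfl) (a.1 i))) := fun i =>
    (GrothLib.Cube.isUnit_component ha i (le_refl ((c.comap σ.left).D i))).map _
  let e : ∀ i, (GmSh X).obj.obj (op (OU S₀ (V i))) := fun i => gmSec (hu i).unit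
  have he : ∀ i, valO (e i) = res (le_inf le_top le_rfl) (a.1 i) := fun i => by
    show valO (gmSec (hu i).unit) = _
    unfold valO
    rw [gmVal_gmSec, IsUnit.unit_spec]
    exact Iso.inv_hom_id_apply (V i).topIso _
  let z' : ∀ i : Y.left, B.obj.obj (op (OU S₀ (V i))) := fun i =>
    B.obj.map (m i (V i) le_rfl).op (z i) - f.hom.app (op (OU S₀ (V i))) (e i)
  have hcov : Sieve.generate (Presieve.ofArrows (fun i => OU S₀ (V i)) fun i => oι S₀ (V i)) ∈ QuotSh.J fppf X S₀ := by
    haveI : ∀ i : Y.left, IsOpenImmersion (oι S₀ (V i)).left := fun i => inferInstanceAs (IsOpenImmersion (V i).ι)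
    exact GrothLib.AdeqMod20.mem_J_of_opens_arrows _ fun x => ⟨σ.left x, ⟨x, hxU (σ.left x)⟩, rfl⟩
  obtain ⟨t, ht⟩ := exists_glue B _ hcov z' (by
    intro i k Z q₁ q₂ hpq
    have hl : q₁.left ≫ (V i).ι = q₂.left ≫ (V k).ι := congrArg CommaMorphism.left hpq
    have hr : Set.range (q₁.left ≫ (V i).ι) ⊆ Set.range (V i ⊓ V k).ι := by
      rintro _ ⟨y, rfl⟩
      rw [Scheme.Opens.range_ι]
      refine ⟨(q₁.left y).2, ?_⟩
      rw [hl]
      exact (q₂.left y).2
    let L : Z ⟶ OU S₀ (V i ⊓ V k) := Over.homMk (IsOpenImmersion.lift _ _ hr) (by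
      change IsOpenImmersion.lift _ _ hr ≫ (V i ⊓ V k).ι ≫ S₀.hom = Z.hom
      rw [IsOpenImmersion.lift_fac_assoc]
      exact (Category.assoc _ _ _).trans (Over.w q₁))
    have hL : L ≫ oι S₀ (V i ⊓ V k) = q₁ ≫ oι S₀ (V i) := Over.OverMorphism.ext (IsOpenImmersion.lift_fac _ _ _)
    have e1 : q₁ = L ≫ oHom inf_le_left := hom_ext_oι (by rw [Category.assoc, oHom_oι, hL])
    have e2 : q₂ = L ≫ oHom inf_le_right := hom_ext_oι (by rw [Category.assoc, oHom_oι, hL, hpq])
    rw [e1, e2, ← GrothLib.AdeqMod20.map_comp_app, ← GrothLib.AdeqMod20.map_comp_app]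
    refine congrArg _ ?_
    have hi' : V i ⊓ V k ≤ V i := inf_le_left
    have hk' : V i ⊓ V k ≤ V k := inf_le_right
    let m₂ : OU S₀ (V i ⊓ V k) ⟶ OU Y (U i ⊓ U k) := Over.homMk (σ.left.resLE (U i ⊓ U k) (V i ⊓ V k) (le_inf hi' hk')) (by
      change σ.left.resLE (U i ⊓ U k) (V i ⊓ V k) _ ≫ (U i ⊓ U k).ι ≫ Y.hom = (V i ⊓ V k).ι ≫ S₀.hom
      rw [← Category.assoc, Scheme.Hom.resLE_comp_ι, Category.assoc, Over.w σ])
    have em : ∀ (j : Y.left) (hj : U i ⊓ U k ≤ U j) (hj' : V i ⊓ V k ≤ V j),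
        oHom hj' ≫ m j (V j) le_rfl = m₂ ≫ oHom hj := fun j hj hj' => hom_ext_oι (by
      rw [Category.assoc, Category.assoc, hm, oHom_oι, ← Category.assoc, oHom_oι]
      exact (Over.OverMorphism.ext (Scheme.Hom.resLE_comp_ι _ _).symm))
    have hvk : (GmSh X).obj.map (oHom inf_le_left).op (e i) =
        (GmSh X).obj.map m₂.op (v i k (U i ⊓ U k) inf_le_left inf_le_right) +
          (GmSh X).obj.map (oHom inf_le_right).op (e k) := by
      refine valO_injective ?_
      rw [valO_add, valO_map, valO_map, valO_resLE σ (le_inf hi' hk') m₂ rfl, he, he]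
      have hh := (c.comap σ.left).sect_spec a i k (W := V i ⊓ V k) (le_inf le_top hi') (le_inf le_top hk')
      rw [pow_one] at hh
      refine ((res_res _ _ _).trans hh).trans (congrArg₂ (· * ·) ?_ (res_res _ _ _).symm)
      exact GrothLib.PicDescent.comap_G' c σ.left i k hi' hk'
    have hB := congrArg (f.hom.app (op (OU S₀ (V i ⊓ V k)))) hvk
    rw [map_add, NatTrans.naturality_apply, NatTrans.naturality_apply, NatTrans.naturality_apply, hv, map_sub,
      GrothLib.AdeqMod20.map_comp_app, GrothLib.AdeqMod20.map_comp_app, ← em i inf_le_left inf_le_left,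
      ← em k inf_le_right inf_le_right] at hB
    simp only [z', map_sub, hB, GrothLib.AdeqMod20.map_comp_app]
    abel)
  refine ⟨t, sect_ext D _ hcov fun i => ?_⟩
  refine (NatTrans.naturality_apply g.hom (oι S₀ (V i)).op t).symm.trans ?_
  rw [ht i, map_sub, (g_eq_zero_iff f g w hC _ _).2 ⟨e i, rfl⟩, sub_zero, NatTrans.naturality_apply, hz,
    GrothLib.AdeqMod20.map_comp_app, hm, GrothLib.AdeqMod20.map_comp_app]

end GrothLib.ExtShGa6
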