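import Groth.Agent.Lib.ExtShGa6.Pic
import Groth.Agent.Lib.ExtShGa6.Obstr
import Groth.Agent.Lib.GaUnits.Basic
import Groth.Prelude.Def_CGrpSh2

/-!
# Local lifting of homomorphisms from the additive group
-/

set_option autoImplicit false
set_option backward.isDefEq.respectTransparency false
set_option backward.isDefEq.respectTransparency.types false
set_option linter.all false
set_option maxHeartbeats 1000000
set_option synthInstance.maxHeartbeats 200000

universe u

open CategoryTheory CategoryTheory.Limits AlgebraicGeometry Opposite MonoidalCategory CartesianMonoidalCategory MonObj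
open GrothLib.GaDualQ13 (GaSh GmSh gmSec gmVal gmVal_gmSec gmVal_injective gmVal_map gmVal_add gmVal_zero isUnit_gmVal extOb extHom toExt toExt_bijective appTop_extHom)

noncomputable section

namespace GrothLib.ExtShGa6

local notation "fppf" => Scheme.fppfPrecoverage

variable {X : Scheme.{u}} (T : Over X) [IsAffine T.left]

/-- The morphism of objects over an affine object given by a ring map. -/
def mapOb {D D' : Type u} [CommRing D] [CommRing D'] (a : Γ(T.left, ⊤) →+* D) (a' : Γ(T.left, ⊤) →+* D')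
    (χ : D →+* D') (h : χ.comp a = a') : extOb T a' ⟶ extOb T a :=
  Over.homMk (Spec.map (CommRingCat.ofHom χ)) (by
    subst h
    show Spec.map (CommRingCat.ofHom χ) ≫ Spec.map (CommRingCat.ofHom a) ≫ _ = Spec.map _ ≫ _
    rw [← Category.assoc, ← Spec.map_comp, ← CommRingCat.ofHom_comp])

theorem mapOb_extHom {D D' : Type u} [CommRing D] [CommRing D'] (a : Γ(T.left, ⊤) →+* D) (a' : Γ(T.left, ⊤) →+* D')
    (χ : D →+* D') (h : χ.comp a = a') : mapOb T a a' χ h ≫ extHom T a = extHom T a' := by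
  subst h
  refine Over.OverMorphism.ext ?_
  show Spec.map (CommRingCat.ofHom χ) ≫ Spec.map (CommRingCat.ofHom a) ≫ _ = Spec.map _ ≫ _
  rw [← Category.assoc, ← Spec.map_comp, ← CommRingCat.ofHom_comp]

theorem appTop_mapOb {D D' : Type u} [CommRing D] [CommRing D'] (a : Γ(T.left, ⊤) →+* D) (a' : Γ(T.left, ⊤) →+* D')
    (χ : D →+* D') (h : χ.comp a = a') (b : D) :
    (mapOb T a a' χ h).left.appTop (toExt T a b) = toExt T a' (χ b) :=
  (ConcreteCategory.congr_hom (Scheme.ΓSpecIso_inv_naturality (CommRingCat.ofHom χ)) b).symm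

theorem hom_ext_extOb {D : Type u} [CommRing D] (a : Γ(T.left, ⊤) →+* D) {V : Over X} (m m' : V ⟶ extOb T a)
    (h : ∀ b, m.left.appTop (toExt T a b) = m'.left.appTop (toExt T a b)) : m = m' := by
  haveI : IsAffine (extOb T a).left := inferInstanceAs (IsAffine (Spec _))
  refine Over.OverMorphism.ext (AlgebraicGeometry.ext_of_isAffine (CommRingCat.hom_ext (RingHom.ext fun z => ?_)))
  obtain ⟨b, rfl⟩ := (toExt_bijective T a).2 z
  exact h b

/-- Homomorphisms from the additive group into a quotient by the multiplicative group lift fppf locally. -/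
theorem exists_split (p : ℕ) [Fact p.Prime] (hp : (p : Γ(X, ⊤)) = 0) [Nontrivial Γ(T.left, ⊤)]
    {B Q : BigSite.Ab fppf X} (i : GmSh X ⟶ B) (π : B ⟶ Q)
    (w : i ≫ π = 0) (hC : (ShortComplex.mk i π w).ShortExact) (φ : (GaSh X).over T ⟶ Q.over T) :
    ∃ (T₂ : Over X) (h : T₂ ⟶ T), Flat h.left ∧ LocallyOfFinitePresentation h.left ∧ Surjective h.left ∧
      ∃ ψ : (GaSh X).over T₂ ⟶ B.over T₂, ∀ (V : Over X) (k : V ⟶ T₂) (a : (GaSh X).obj.obj (op V)),
        π.hom.app (op V) (ψ.hom.app (op (Over.mk k)) a) = φ.hom.app (op (Over.mk (k ≫ h))) a := by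
  let G := Red.Ga X
  let A : Type u := Γ(T.left, ⊤)
  haveI : CharP A p := by
    refine (CharP.charP_iff_prime_eq_zero (Fact.out : p.Prime)).2 ?_
    have e := congrArg T.hom.appTop hp
    rwa [map_natCast, map_zero] at e
  let F := GaSh X
  let pt : ∀ {V : Over X}, (V ⟶ G) → F.obj.obj (op V) := fun x => ULift.up.{u + 1} (Additive.ofMul x)
  have hpt : ∀ {V V' : Over X} (k : V' ⟶ V) (x : V ⟶ G), F.obj.map k.op (pt x) = pt (k ≫ x) := fun k x => rfl
  have hptm : ∀ {V : Over X} (x y : V ⟶ G), pt (x * y) = pt x + pt y := fun x y => rfl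
  have hpt1 : ∀ {V : Over X}, pt (1 : V ⟶ G) = 0 := rfl
  let Φ : ∀ {V : Over X}, (V ⟶ T) → (V ⟶ G) → Q.obj.obj (op V) := fun g x => φ.hom.app (op (Over.mk g)) (pt x)
  have hΦn : ∀ {V V' : Over X} (k : V' ⟶ V) (g : V ⟶ T) (x : V ⟶ G), Q.obj.map k.op (Φ g x) = Φ (k ≫ g) (k ≫ x) :=
    fun k g x => (NatTrans.naturality_apply φ.hom (Over.homMk k : Over.mk (k ≫ g) ⟶ Over.mk g).op (pt x)).symm
  have hΦm : ∀ {V : Over X} (g : V ⟶ T) (x y : V ⟶ G), Φ g (x * y) = Φ g x + Φ g y := fun g x y =>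
    map_add (φ.hom.app (op (Over.mk g))).hom (pt x) (pt y)
  have hΦ1 : ∀ {V : Over X} (g : V ⟶ T), Φ g 1 = 0 := fun g => map_zero (φ.hom.app (op (Over.mk g))).hom
  have hinj : ∀ (V : Over X), Function.Injective (i.hom.app (op V)) := fun V =>
    GrothLib.FppfH90Sch6.f_injective i π w hC V
  have hker : ∀ (V : Over X) (b : B.obj.obj (op V)), π.hom.app (op V) b = 0 ↔ ∃ a, i.hom.app (op V) a = b := fun V b =>
    GrothLib.FppfH90Sch6.g_eq_zero_iff i π w hC V b
  -- the obstruction on the line over `T`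
  let aX : Γ(T.left, ⊤) →+* Polynomial A := Polynomial.C
  let Y := extOb T aX
  let d : Y ⟶ G := GrothLib.RedPts.gaPt (toExt T aX Polynomial.X)
  obtain ⟨c, hc₁, hc₂⟩ := exists_obstruction i π w hC (Φ (extHom T aX) d)
  let z₀ := mapOb T aX (RingHom.id A) (Polynomial.evalRingHom (0 : A)) (RingHom.ext fun r => Polynomial.eval_C)
  have hz₀ : z₀ ≫ d = 1 := GrothLib.RedPts.gaFn_injective (by
    rw [GrothLib.RedPts.gaFn_comp, GrothLib.RedPts.gaFn_gaPt, GrothLib.GaUnits.gaFn_one]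
    exact (appTop_mapOb T aX (RingHom.id A) (Polynomial.evalRingHom (0 : A)) _ _).trans
      ((congrArg _ Polynomial.eval_X).trans (map_zero _)))
  have h0 := hc₁ z₀ ⟨0, by rw [map_zero, hΦn, hz₀, hΦ1]⟩
  obtain ⟨C, _, _, hCfree, hCfin, hCfp, hCnt, hCtriv⟩ := exists_stage_triv p A c h0
  let ja : Γ(T.left, ⊤) →+* C := algebraMap A C
  let T₁ := extOb T ja
  let g₁ : T₁ ⟶ T := extHom T ja
  let a₁ : Γ(T.left, ⊤) →+* Polynomial C := Polynomial.C.comp ja
  let Y₁ := extOb T a₁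
  let z₁ : Y₁ ⟶ Y := mapOb T aX a₁ (Polynomial.mapRingHom ja) (RingHom.ext fun r => Polynomial.map_C ja)
  obtain ⟨t₁, ht₁⟩ := hc₂ z₁ hCtriv
  rw [hΦn, mapOb_extHom] at ht₁
  let d₁ : Y₁ ⟶ G := z₁ ≫ d
  have hd₁ : Red.gaFn d₁ = toExt T a₁ Polynomial.X := by
    rw [GrothLib.RedPts.gaFn_comp, GrothLib.RedPts.gaFn_gaPt]
    exact (appTop_mapOb T aX a₁ (Polynomial.mapRingHom ja) _ _).trans (congrArg _ (Polynomial.map_X ja))
  let ev : ∀ {V : Over X}, (V ⟶ T₁) → (C →+* Γ(V.left, ⊤)) := fun g => g.left.appTop.hom.comp (toExt T ja)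
  have hevι : ∀ {V : Over X} (g : V ⟶ T₁), (ev g).comp ja = (g ≫ g₁).left.appTop.hom := fun g => RingHom.ext fun r => by
    rw [Over.comp_left, Scheme.Hom.comp_appTop]
    exact congrArg g.left.appTop (appTop_extHom T ja r).symm
  have hevn : ∀ {V V' : Over X} (k : V' ⟶ V) (g : V ⟶ T₁), ev (k ≫ g) = k.left.appTop.hom.comp (ev g) :=
    fun k g => RingHom.ext fun r => by
      show (k ≫ g).left.appTop _ = _
      rw [Over.comp_left, Scheme.Hom.comp_appTop]
      rfl
  have hM : ∀ (V : Over X) (g : V ⟶ T₁) (x : V ⟶ G), ∃ m : V ⟶ Y₁, m ≫ extHom T a₁ = g ≫ g₁ ∧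
      ∀ b, m.left.appTop (toExt T a₁ b) = Polynomial.eval₂RingHom (ev g) (Red.gaFn x) b := fun V g x =>
    GrothLib.GaDualQ13.exists_lift T a₁ (g ≫ g₁) (Polynomial.eval₂RingHom (ev g) (Red.gaFn x))
      (RingHom.ext fun r => (Polynomial.eval₂_C _ _).trans (RingHom.congr_fun (hevι g) r))
  choose M hM₁ hM₂ using hM
  have hMd : ∀ (V : Over X) (g : V ⟶ T₁) (x : V ⟶ G), M V g x ≫ d₁ = x := fun V g x =>
    GrothLib.RedPts.gaFn_injective (by
      rw [GrothLib.RedPts.gaFn_comp, hd₁]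
      exact (hM₂ V g x _).trans (Polynomial.eval₂_X _ _))
  have hMn : ∀ {V V' : Over X} (k : V' ⟶ V) (g : V ⟶ T₁) (x : V ⟶ G), k ≫ M V g x = M V' (k ≫ g) (k ≫ x) :=
    fun {V V'} k g x => hom_ext_extOb T a₁ _ _ fun b => by
      rw [hM₂, Over.comp_left, Scheme.Hom.comp_appTop, CommRingCat.comp_apply, hM₂, hevn, GrothLib.RedPts.gaFn_comp]
      exact Polynomial.hom_eval₂ _ _ _ _
  let tv : ∀ {V : Over X}, (V ⟶ T₁) → (V ⟶ G) → B.obj.obj (op V) := fun {V} g x => B.obj.map (M V g x).op t₁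
  have htvn : ∀ {V V' : Over X} (k : V' ⟶ V) (g : V ⟶ T₁) (x : V ⟶ G), B.obj.map k.op (tv g x) = tv (k ≫ g) (k ≫ x) :=
    fun k g x => by simp only [tv]; rw [GrothLib.AdeqMod20.map_comp_app, hMn]
  have htv : ∀ {V : Over X} (g : V ⟶ T₁) (x : V ⟶ G), π.hom.app (op V) (tv g x) = Φ (g ≫ g₁) x := fun {V} g x => by
    refine (NatTrans.naturality_apply π.hom (M V g x).op t₁).trans ((congrArg _ ht₁).trans ?_)
    rw [hΦn, hM₁]
    exact congrArg _ (hMd V g x)
  -- normalise at the origin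
  obtain ⟨v₀, hv₀⟩ := (hker T₁ (tv (𝟙 T₁) 1)).1 (by rw [htv, hΦ1])
  let t : ∀ {V : Over X}, (V ⟶ T₁) → (V ⟶ G) → B.obj.obj (op V) := fun {V} g x =>
    tv g x - B.obj.map g.op (i.hom.app (op T₁) v₀)
  have htn : ∀ {V V' : Over X} (k : V' ⟶ V) (g : V ⟶ T₁) (x : V ⟶ G), B.obj.map k.op (t g x) = t (k ≫ g) (k ≫ x) :=
    fun k g x => by simp only [t]; rw [map_sub, htvn, GrothLib.AdeqMod20.map_comp_app]
  have hgt : ∀ {V : Over X} (g : V ⟶ T₁) (x : V ⟶ G), π.hom.app (op V) (t g x) = Φ (g ≫ g₁) x := fun g x => by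
    simp only [t]
    rw [map_sub, htv, NatTrans.naturality_apply, (hker T₁ _).2 ⟨v₀, rfl⟩, map_zero, sub_zero]
  have ht1 : ∀ {V : Over X} (g : V ⟶ T₁), t g 1 = 0 := fun g => by
    simp only [t]
    rw [hv₀, htvn, Category.comp_id, MonObj.comp_one, sub_self]
  -- the cocycle
  have hcc : ∀ (V : Over X) (g : V ⟶ T₁) (x y : V ⟶ G), ∃ a, i.hom.app (op V) a = t g (x * y) - t g x - t g y :=
    fun V g x y => (hker V _).1 (by rw [map_sub, map_sub, hgt, hgt, hgt, hΦm]; abel)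
  choose cc hcc using hcc
  have hcn : ∀ {V V' : Over X} (k : V' ⟶ V) (g : V ⟶ T₁) (x y : V ⟶ G),
      (GmSh X).obj.map k.op (cc V g x y) = cc V' (k ≫ g) (k ≫ x) (k ≫ y) := by
    intro V V' k g x y
    apply hinj
    rw [NatTrans.naturality_apply, hcc, hcc, map_sub, map_sub, htn, htn, htn, MonObj.comp_mul]
  let a₂ : ∀ n : ℕ, Γ(T.left, ⊤) →+* MvPolynomial (Fin n) C := fun n => MvPolynomial.C.comp ja
  let q : ∀ n : ℕ, extOb T (a₂ n) ⟶ T₁ := fun n => mapOb T ja (a₂ n) MvPolynomial.C rfl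
  let u : Fin 2 → (extOb T (a₂ 2) ⟶ G) := fun k => GrothLib.RedPts.gaPt (toExt T (a₂ 2) (MvPolynomial.X k))
  obtain ⟨h, hh⟩ := (toExt_bijective T (a₂ 2)).2 (gmVal (cc _ (q 2) (u 0) (u 1)))
  have hev : ∀ (V : Over X) (g : V ⟶ T₁) (x y : V ⟶ G),
      gmVal (cc V g x y) = MvPolynomial.eval₂ (ev g) ![Red.gaFn x, Red.gaFn y] h := by
    intro V g x y
    obtain ⟨m, -, hm⟩ := GrothLib.GaDualQ13.exists_lift T (a₂ 2) (g ≫ g₁)
      (MvPolynomial.eval₂Hom (ev g) ![Red.gaFn x, Red.gaFn y])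
      (RingHom.ext fun r => (MvPolynomial.eval₂_C _ _ _).trans (RingHom.congr_fun (hevι g) r))
    have hu : ∀ k, Red.gaFn (m ≫ u k) = ![Red.gaFn x, Red.gaFn y] k := fun k => by
      rw [GrothLib.RedPts.gaFn_comp, GrothLib.RedPts.gaFn_gaPt]
      exact (hm _).trans (MvPolynomial.eval₂_X _ _ _)
    have hx : m ≫ u 0 = x := GrothLib.RedPts.gaFn_injective (hu 0)
    have hy : m ≫ u 1 = y := GrothLib.RedPts.gaFn_injective (hu 1)
    have hg : m ≫ q 2 = g := hom_ext_extOb T ja _ _ fun b => by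
      rw [Over.comp_left, Scheme.Hom.comp_appTop, CommRingCat.comp_apply, appTop_mapOb, hm]
      exact MvPolynomial.eval₂_C _ _ _
    rw [← hx, ← hy, ← hg, ← hcn m, gmVal_map, ← hh, hx, hy, hg]
    exact hm h
  have hevq : ∀ n, ev (q n) = (toExt T (a₂ n)).comp (algebraMap C (MvPolynomial (Fin n) C)) := fun n =>
    RingHom.ext fun r => appTop_mapOb T ja (a₂ n) MvPolynomial.C rfl r
  have hval : ∀ {n : ℕ} (a b : MvPolynomial (Fin n) C),
      gmVal (cc _ (q n) (GrothLib.RedPts.gaPt (toExt T (a₂ n) a)) (GrothLib.RedPts.gaPt (toExt T (a₂ n) b))) =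
      toExt T (a₂ n) (MvPolynomial.aeval ![a, b] h) := by
    intro n a b
    rw [hev, GrothLib.RedPts.gaFn_gaPt, GrothLib.RedPts.gaFn_gaPt, MvPolynomial.aeval_def, MvPolynomial.eval₂_comp_left,
      hevq]
    congr 1
    funext k
    fin_cases k <;> rfl
  have hg0 : ∀ {n : ℕ} (a b : MvPolynomial (Fin n) C),
      (GrothLib.RedPts.gaPt (toExt T (a₂ n) (a + b)) : extOb T (a₂ n) ⟶ G) =
        GrothLib.RedPts.gaPt (toExt T (a₂ n) a) * GrothLib.RedPts.gaPt (toExt T (a₂ n) b) := fun a b => by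
    rw [map_add, GrothLib.RedPts.gaPt_add]
  have hX : MvPolynomial.aeval ![(MvPolynomial.X 0 : MvPolynomial (Fin 2) C), MvPolynomial.X 1] h = h := by
    rw [show (![MvPolynomial.X 0, MvPolynomial.X 1] : Fin 2 → MvPolynomial (Fin 2) C) = MvPolynomial.X by
      funext k; fin_cases k <;> rfl, MvPolynomial.aeval_X_left_apply]
  have hu : IsUnit h :=
    (MulEquiv.isUnit_map (RingEquiv.ofBijective (toExt T (a₂ 2)) (toExt_bijective T (a₂ 2)))).1
      (show IsUnit (toExt T (a₂ 2) h) from hh ▸ isUnit_gmVal _)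
  have hcone : ∀ (V : Over X) (g : V ⟶ T₁) (x : V ⟶ G), cc V g x 1 = 0 := fun V g x => hinj V (by
    rw [hcc, map_zero, show x * (1 : V ⟶ G) = x from _root_.mul_one x, sub_self, ht1, sub_zero])
  have hsym : ∀ (V : Over X) (g : V ⟶ T₁) (x y : V ⟶ G), cc V g y x = cc V g x y := fun V g x y => hinj V (by
    rw [hcc, hcc, _root_.mul_comm y x]
    abel)
  have hcoc : ∀ (V : Over X) (g : V ⟶ T₁) (x y z : V ⟶ G),
      cc V g y z + cc V g x (y * z) = cc V g (x * y) z + cc V g x y := fun V g x y z => hinj V (by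
    rw [map_add, map_add, hcc, hcc, hcc, hcc, _root_.mul_assoc]
    abel)
  haveI : CharP C p := by
    refine (CharP.charP_iff_prime_eq_zero (Fact.out : p.Prime)).2 ?_
    rw [← map_natCast (algebraMap A C), CharP.cast_eq_zero, map_zero]
  obtain ⟨C₂, _, _, hfree, hfin, hfp, hnt, f, hfu, hf⟩ := exists_stage_split p C h hu
    ((toExt_bijective T (a₂ 2)).1 (by
      rw [← hval, map_one, show (GrothLib.RedPts.gaPt (toExt T (a₂ 2) 0) : extOb T (a₂ 2) ⟶ G) = 1 from
        GrothLib.RedPts.gaFn_injective (by rw [GrothLib.RedPts.gaFn_gaPt, map_zero, GrothLib.GaUnits.gaFn_one]), hcone]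
      exact gmVal_zero))
    ((toExt_bijective T (a₂ 2)).1 (by
      rw [← hval, hsym]
      exact (hval _ _).trans (congrArg _ hX)))
    ((toExt_bijective T (a₂ 3)).1 (by
      rw [map_mul, map_mul, ← hval, ← hval, ← hval, ← hval, hg0, hg0, ← gmVal_add, ← gmVal_add, hcoc]))
  -- the cover and the splitting
  let ja₂ : C →+* C₂ := algebraMap C C₂
  let T₂ := extOb T (ja₂.comp ja)
  let r : T₂ ⟶ T₁ := mapOb T ja (ja₂.comp ja) ja₂ rfl
  let ev₂ : ∀ {V : Over X}, (V ⟶ T₂) → (C₂ →+* Γ(V.left, ⊤)) := fun k =>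
    k.left.appTop.hom.comp (toExt T (ja₂.comp ja))
  have hev₂ : ∀ {V : Over X} (k : V ⟶ T₂), ev (k ≫ r) = (ev₂ k).comp ja₂ := fun k => RingHom.ext fun b => by
    show (k ≫ r).left.appTop _ = _
    rw [Over.comp_left, Scheme.Hom.comp_appTop, CommRingCat.comp_apply, appTop_mapOb]
    rfl
  have hfu' : ∀ {V : Over X} (k : V ⟶ T₂) (x : V ⟶ G), IsUnit (f.eval₂ (ev₂ k) (Red.gaFn x)) :=
    fun k x => hfu.map (Polynomial.eval₂RingHom _ _)
  let v : ∀ {V : Over X}, (V ⟶ T₂) → (V ⟶ G) → (GmSh X).obj.obj (op V) := fun k x => gmSec (hfu' k x).unit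
  have hv : ∀ {V : Over X} (k : V ⟶ T₂) (x : V ⟶ G), gmVal (v k x) = f.eval₂ (ev₂ k) (Red.gaFn x) := fun k x =>
    (gmVal_gmSec _).trans (IsUnit.unit_spec _)
  have hvn : ∀ {V V' : Over X} (j : V' ⟶ V) (k : V ⟶ T₂) (x : V ⟶ G),
      (GmSh X).obj.map j.op (v k x) = v (j ≫ k) (j ≫ x) := by
    intro V V' j k x
    apply gmVal_injective
    rw [gmVal_map, hv, hv, GrothLib.RedPts.gaFn_comp]
    refine (Polynomial.hom_eval₂ _ _ j.left.appTop.hom _).trans ?_
    congr 1
  have hvc : ∀ {V : Over X} (k : V ⟶ T₂) (x y : V ⟶ G), v k (x * y) = v k x + v k y + cc V (k ≫ r) x y := by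
    intro V k x y
    apply gmVal_injective
    have e := congrArg (MvPolynomial.eval₂Hom (ev₂ k) ![Red.gaFn x, Red.gaFn y]) hf
    simp only [map_mul, Polynomial.aeval_def, Polynomial.hom_eval₂, MvPolynomial.eval₂Hom_map_hom] at e
    rw [gmVal_add, gmVal_add, hev, hv, hv, hv, GrothLib.RedPts.gaFn_mul, hev₂]
    convert e using 2 <;> simp [RingHom.ext_iff, MvPolynomial.eval₂_map] <;> rfl
  let sp : ∀ {V : Over X}, (V ⟶ T₂) → (V ⟶ G) → B.obj.obj (op V) := fun {V} k x =>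
    t (k ≫ r) x - i.hom.app (op V) (v k x)
  have hadd : ∀ {V : Over X} (k : V ⟶ T₂) (x y : V ⟶ G), sp k (x * y) = sp k x + sp k y := by
    intro V k x y
    simp only [sp]
    rw [hvc, map_add, map_add, hcc]
    abel
  let ψ : F.over T₂ ⟶ B.over T₂ :=
    ⟨{ app := fun W => ConcreteCategory.ofHom (C := AddCommGrpCat.{u + 1}) (X := (F.over T₂).obj.obj W)
          (Y := (B.over T₂).obj.obj W)
          (AddMonoidHom.mk' (fun a => sp (unop W).hom
            (show ULift.{u + 1} (Additive ((unop W).left ⟶ G)) from a).down.toMul) fun a b => hadd _ _ _)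
       naturality := fun W W' j => AddCommGrpCat.ext fun a => by
          let x : (unop W).left ⟶ G := (show ULift.{u + 1} (Additive ((unop W).left ⟶ G)) from a).down.toMul
          show sp (unop W').hom (j.unop.left ≫ x) = B.obj.map j.unop.left.op (sp (unop W).hom x)
          simp only [sp]
          rw [map_sub, htn, ← NatTrans.naturality_apply, hvn, ← Category.assoc, Over.w j.unop] }⟩
  haveI : Nontrivial C := hCnt
  haveI : Module.FaithfullyFlat A C := inferInstance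
  haveI : Module.FaithfullyFlat C C₂ := by haveI := hnt; infer_instance
  have e : (extHom T (ja₂.comp ja)).left = (Spec.map (CommRingCat.ofHom ja₂) ≫ Spec.map (CommRingCat.ofHom ja)) ≫
      T.left.isoSpec.inv := by
    rw [← Spec.map_comp]
    rfl
  haveI : Flat (Spec.map (CommRingCat.ofHom ja₂)) :=
    (HasRingHomProperty.Spec_iff (P := @Flat)).2 (RingHom.flat_algebraMap_iff.2 (inferInstance : Module.Flat C C₂))
  haveI : Flat (Spec.map (CommRingCat.ofHom ja)) :=
    (HasRingHomProperty.Spec_iff (P := @Flat)).2 (RingHom.flat_algebraMap_iff.2 (inferInstance : Module.Flat A C))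
  haveI : LocallyOfFinitePresentation (Spec.map (CommRingCat.ofHom ja₂)) :=
    (HasRingHomProperty.Spec_iff (P := @LocallyOfFinitePresentation)).2
      (RingHom.finitePresentation_algebraMap.2 hfp)
  haveI : LocallyOfFinitePresentation (Spec.map (CommRingCat.ofHom ja)) :=
    (HasRingHomProperty.Spec_iff (P := @LocallyOfFinitePresentation)).2
      (RingHom.finitePresentation_algebraMap.2 hCfp)
  haveI : Surjective (Spec.map (CommRingCat.ofHom ja₂)) := ⟨PrimeSpectrum.comap_surjective_of_faithfullyFlat (A := C) (B := C₂)⟩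
  haveI : Surjective (Spec.map (CommRingCat.ofHom ja)) := ⟨PrimeSpectrum.comap_surjective_of_faithfullyFlat (A := A) (B := C)⟩
  refine ⟨T₂, extHom T (ja₂.comp ja), ?_, ?_, ?_, ψ, fun V k a => ?_⟩
  · rw [e]; infer_instance
  · rw [e]; infer_instance
  · rw [e]; infer_instance
  let x : V ⟶ G := (show ULift.{u + 1} (Additive (V ⟶ G)) from a).down.toMul
  show π.hom.app (op V) (sp k x) = Φ (k ≫ extHom T (ja₂.comp ja)) x
  simp only [sp]
  rw [map_sub, hgt, (hker _ _).2 ⟨_, rfl⟩, sub_zero, Category.assoc, mapOb_extHom]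

end GrothLib.ExtShGa6
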