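import Groth.Agent.Lib.ExtShGa6.Stage
import Groth.Agent.Lib.Cube.Mod
import Groth.Agent.Lib.PicW4.AffinePic

/-!
# Trivialising a cocycle on a line in a finite stage
-/

set_option autoImplicit false
set_option backward.isDefEq.respectTransparency false
set_option linter.all false
set_option maxHeartbeats 400000
set_option synthInstance.maxHeartbeats 200000

universe u

open CategoryTheory AlgebraicGeometry Polynomial
open GrothLib.Ample (Cocycle)
open scoped TensorProduct

noncomputable section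

namespace GrothLib.ExtShGa6

/-- A cocycle on a line, trivial at the origin, is trivial after adjoining finitely many roots. -/
theorem exists_stage_triv (p : ℕ) [Fact p.Prime] (A : Type u) [CommRing A] [CharP A p]
    (c : Cocycle (Spec (CommRingCat.of A[X])))
    (h0 : GrothLib.Cube.Triv (c.comap (Spec.map (CommRingCat.ofHom (evalRingHom (0 : A)))))) :
    ∃ (C : Type u) (_ : CommRing C) (_ : Algebra A C), Module.Free A C ∧ Module.Finite A C ∧
      Algebra.FinitePresentation A C ∧ Nontrivial C ∧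
      GrothLib.Cube.Triv (c.comap (Spec.map (CommRingCat.ofHom (mapRingHom (algebraMap A C))))) := by
  obtain ⟨M, hM, ⟨eM⟩⟩ := GrothLib.PicW4.exists_invertible_tilde (c.isInvertible_twist 1)
  let φ : CommRingCat.of A[X] ⟶ CommRingCat.of A := CommRingCat.ofHom (evalRingHom (0 : A))
  obtain ⟨e0⟩ := c.nonempty_pullback_iso (n := 1) (Spec.map φ) (Iso.refl _)
  obtain ⟨t0⟩ := (GrothLib.Cube.triv_iff _).1 h0
  obtain ⟨f⟩ := GrothLib.PicW4.nonempty_equiv_of_tilde_iso
    (((GrothLib.GenCover.pullTildeIso φ).app M).symm ≪≫ (Scheme.Modules.pullback (Spec.map φ)).mapIso eM ≪≫ e0 ≪≫ t0 ≪≫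
      (AlgebraicGeometry.tildeSelf (R := CommRingCat.of A)).symm)
  letI : Algebra A[X] A := (evalRingHom (0 : A)).toAlgebra
  let f' : A ⊗[A[X]] M ≃ₗ[A] A := f
  let π : M →+ A := f'.toAddEquiv.toAddMonoidHom.comp (TensorProduct.mk A[X] A M 1).toAddMonoidHom
  have hπ' : ∀ m, π m = f' (1 ⊗ₜ m) := fun m => rfl
  have hπ : ∀ (P : A[X]) m, π (P • m) = P.eval 0 * π m := fun P m => by
    rw [hπ', hπ', TensorProduct.tmul_smul, ← algebraMap_smul A P, map_smul]
    rfl
  have hr : ∀ z, ∃ m, π m = f' z := fun z => by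
    induction z using TensorProduct.induction_on with
    | zero => exact ⟨0, by rw [map_zero, map_zero]⟩
    | tmul a m =>
      refine ⟨Polynomial.C a • m, ?_⟩
      rw [hπ, eval_C, hπ', show a ⊗ₜ[A[X]] (m : M) = a • ((1 : A) ⊗ₜ[A[X]] (m : M)) by
        rw [TensorProduct.smul_tmul', smul_eq_mul, mul_one], map_smul, smul_eq_mul]
    | add x y hx hy =>
      obtain ⟨m, hm⟩ := hx
      obtain ⟨m', hm'⟩ := hy
      exact ⟨m + m', by rw [map_add, map_add, hm, hm']⟩
  obtain ⟨m₁, hm₁⟩ := hr (f'.symm 1)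
  rw [LinearEquiv.apply_symm_apply] at hm₁
  obtain ⟨C, iC, iA, hfree, hfin, hfp, hnt, hN⟩ := exists_stage_pic p A M π hπ m₁ hm₁
  letI : Algebra A[X] C[X] := (mapRingHom (algebraMap A C)).toAlgebra
  obtain ⟨g⟩ := hN
  refine ⟨C, iC, iA, hfree, hfin, hfp, hnt, (GrothLib.Cube.triv_iff _).2 ?_⟩
  let ψ : CommRingCat.of A[X] ⟶ CommRingCat.of C[X] := CommRingCat.ofHom (mapRingHom (algebraMap A C))
  obtain ⟨e1⟩ := c.nonempty_pullback_iso (n := 1) (Spec.map ψ) (Iso.refl _)
  let g' : (ModuleCat.extendScalars ψ.hom).obj M ≅ ModuleCat.of (CommRingCat.of C[X]) (CommRingCat.of C[X]) :=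
    g.toModuleIso
  exact ⟨e1.symm ≪≫ (Scheme.Modules.pullback (Spec.map ψ)).mapIso eM.symm ≪≫ (GrothLib.GenCover.pullTildeIso ψ).app M ≪≫
    (tilde.functor (CommRingCat.of C[X])).mapIso g' ≪≫ AlgebraicGeometry.tildeSelf (R := CommRingCat.of C[X])⟩

end GrothLib.ExtShGa6
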