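import Groth.Agent.Lib.SwanPic1.Basic
import Groth.Agent.Lib.HensPrep1.Pic
import Mathlib.RingTheory.PicardGroup

/-!
# Witnesses of triviality of an invertible module on a line over a seminormal ring
-/

set_option autoImplicit false
set_option linter.all false
set_option synthInstance.maxHeartbeats 200000

universe u

open Polynomial
open scoped TensorProduct

noncomputable section

namespace GrothLib.ExtShGa6

/-- A normalised linear form and a witness point. -/
theorem exists_form {A : Type u} [CommRing A] (M : Type u) [AddCommGroup M] [Module A[X] M] [Module.Invertible A[X] M]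
    (π : M →+ A) (hπ : ∀ (P : A[X]) m, π (P • m) = P.eval 0 * π m) (m₁ : M) (hm₁ : π m₁ = 1) :
    ∃ (φ : M →ₗ[A[X]] A[X]) (x₀ : M), (φ x₀).coeff 0 = 1 := by
  letI : Module A[X] A := Module.compHom A (evalRingHom (0 : A))
  let ev : A[X] →ₗ[A[X]] A :=
    { toFun := fun P => P.eval 0, map_add' := fun P Q => eval_add, map_smul' := fun P Q => eval_mul }
  let π' : M →ₗ[A[X]] A := { toFun := π, map_add' := π.map_add, map_smul' := hπ }
  obtain ⟨φ, hφ⟩ := Module.projective_lifting_property ev π' fun a => ⟨C a, eval_C⟩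
  exact ⟨φ, m₁, by rw [coeff_zero_eq_eval_zero]; exact (LinearMap.congr_fun hφ m₁).trans hm₁⟩

/-- A finite witness of triviality over a seminormal algebra. -/
theorem exists_witness {A B : Type u} [CommRing A] [CommRing B] (ι : A →+* B) (hB : HTop.IsSeminormalRing B)
    {M : Type u} [AddCommGroup M] [Module A[X] M] [Module.Invertible A[X] M]
    (φ : M →ₗ[A[X]] A[X]) (x₀ : M) (h0 : (φ x₀).coeff 0 = 1) :
    ∃ (I J : Finset B[X]) (xs : B[X] → M) (b : B[X] → B[X]) (θs : B[X] → Module.Dual A[X] M) (c : B[X] → B[X]),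
      IsUnit (∑ i ∈ I, ∑ j ∈ J, b i * c j * (θs j (xs i)).map ι) := by
  classical
  set h := φ x₀
  let K : Ideal A[X] := LinearMap.range φ
  let K' : Ideal A[X] := LinearMap.range (Module.Dual.eval A[X] M x₀)
  have hid : ∀ (θ : Module.Dual A[X] M) (x : M), θ x * h = φ x * θ x₀ := fun θ x => by
    have := congrArg θ (GrothLib.HensPrep1.smul_comm_of_invertible φ x x₀)
    rw [map_smul, map_smul, smul_eq_mul, smul_eq_mul] at this
    linear_combination -this
  have hKK' : K * K' = Ideal.span {h} := by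
    refine le_antisymm (Ideal.mul_le.2 ?_) ((Ideal.span_singleton_le_iff_mem _).2 ?_)
    · rintro _ ⟨x, rfl⟩ _ ⟨θ, rfl⟩
      exact Ideal.mem_span_singleton'.2 ⟨θ x, hid θ x⟩
    · obtain ⟨w₁, hw₁⟩ := (Module.Invertible.bijective (R := A[X]) (M := M)).2 1
      have h1 : ∀ w, h * contractLeft A[X] M w ∈ K * K' := fun w => by
        induction w using TensorProduct.induction_on with
        | zero => rw [map_zero, mul_zero]; exact zero_mem _
        | tmul θ v =>
          rw [contractLeft_apply, mul_comm h, hid]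
          exact Ideal.mul_mem_mul (LinearMap.mem_range_self φ v) (LinearMap.mem_range_self _ θ)
        | add a b ha hb => rw [map_add, mul_add]; exact add_mem ha hb
      simpa [hw₁] using h1 w₁
  let f := mapRingHom ι
  have hf0 : (f h).coeff 0 = 1 := by rw [coe_mapRingHom, coeff_map, h0, map_one]
  have hKB : K.map f * K'.map f = Ideal.span {f h} := by
    rw [← Ideal.map_mul, hKK', Ideal.map_span, Set.image_singleton]
  obtain ⟨g, hg0, hg⟩ := GrothLib.SwanPic1.exists_generator hB hf0 hKB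
  obtain ⟨g', hg0', hg'⟩ := GrothLib.SwanPic1.exists_generator hB hf0 (by rw [mul_comm]; exact hKB)
  rw [hg, hg', Ideal.span_singleton_mul_span_singleton] at hKB
  obtain ⟨u, hu⟩ := Ideal.mem_span_singleton'.1 (hKB ▸ Ideal.mem_span_singleton_self (g * g'))
  obtain ⟨v, hv⟩ := Ideal.mem_span_singleton'.1 (hKB.symm ▸ Ideal.mem_span_singleton_self (f h))
  have hreg : ∀ a : B[X], a * f h = 0 → a = 0 :=
    GrothLib.HensPrep1.eq_zero_of_mul_eq_zero_of_coeff (by rw [hf0]; exact isUnit_one)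
  have huv : u * v = 1 := sub_eq_zero.1 (hreg _ (by linear_combination v * hu + hv))
  have e1 : g ∈ K.map f := hg ▸ Ideal.mem_span_singleton_self g
  have e2 : g' ∈ K'.map f := hg' ▸ Ideal.mem_span_singleton_self g'
  rw [Ideal.map, Ideal.span, Finsupp.mem_span_iff_linearCombination] at e1 e2
  obtain ⟨l, hl⟩ := e1
  obtain ⟨l', hl'⟩ := e2
  rw [Finsupp.linearCombination_apply, Finsupp.sum] at hl hl'
  have c1 : ∀ y : B[X], y ∈ f '' (K : Set A[X]) → ∃ x, f (φ x) = y := by
    rintro _ ⟨_, ⟨x, rfl⟩, rfl⟩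
    exact ⟨x, rfl⟩
  have c2 : ∀ y : B[X], y ∈ f '' (K' : Set A[X]) → ∃ θ : Module.Dual A[X] M, f (θ x₀) = y := by
    rintro _ ⟨_, ⟨θ, rfl⟩, rfl⟩
    exact ⟨θ, rfl⟩
  have d1 : ∀ y : B[X], ∃ x, y ∈ f '' (K : Set A[X]) → f (φ x) = y := fun y => by
    by_cases h : y ∈ f '' (K : Set A[X])
    · obtain ⟨x, hx⟩ := c1 y h; exact ⟨x, fun _ => hx⟩
    · exact ⟨0, fun h' => absurd h' h⟩
  have d2 : ∀ y : B[X], ∃ θ : Module.Dual A[X] M, y ∈ f '' (K' : Set A[X]) → f (θ x₀) = y := fun y => by
    by_cases h : y ∈ f '' (K' : Set A[X])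
    · obtain ⟨θ, hx⟩ := c2 y h; exact ⟨θ, fun _ => hx⟩
    · exact ⟨0, fun h' => absurd h' h⟩
  choose xs hxs using d1
  choose θs hθs using d2
  refine ⟨l.support.image Subtype.val, l'.support.image Subtype.val, xs,
    (fun y => if h : y ∈ f '' (K : Set A[X]) then l ⟨y, h⟩ else 0), θs,
    (fun y => if h : y ∈ f '' (K' : Set A[X]) then l' ⟨y, h⟩ else 0), ?_⟩
  refine IsUnit.of_mul_eq_one (v : B[X]) ?_
  refine (congrArg (· * v) ?_).trans huv
  rw [← sub_eq_zero]
  refine hreg _ ?_
  rw [sub_mul, sub_eq_zero, hu, ← hl, ← hl', Finset.sum_mul_sum, Finset.sum_mul,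
    Finset.sum_image Subtype.val_injective.injOn]
  refine Finset.sum_congr rfl fun a _ => ?_
  rw [Finset.sum_mul, Finset.sum_image Subtype.val_injective.injOn]
  refine Finset.sum_congr rfl fun a' _ => ?_
  simp only [dif_pos a.2, dif_pos a'.2, Subtype.coe_eta]
  have e := congrArg f (hid (θs a'.1) (xs a.1))
  rw [map_mul, map_mul, hxs _ a.2, hθs _ a'.2] at e
  simp only [smul_eq_mul]
  change _ * (f (θs a'.1 (xs a.1))) * f h = _
  linear_combination l a * l' a' * e

/-- A witness with unit value trivialises the base change. -/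
theorem nonempty_equiv_of_witness {A₁ S : Type u} [CommRing A₁] [CommRing S] [Algebra A₁ S]
    {M : Type u} [AddCommGroup M] [Module A₁ M] [Module.Invertible A₁ M] {α β : Type u}
    (I : Finset α) (J : Finset β) (xs : α → M) (b : α → S) (θs : β → Module.Dual A₁ M) (c : β → S)
    (hu : IsUnit (∑ i ∈ I, ∑ j ∈ J, b i * c j * algebraMap A₁ S (θs j (xs i)))) :
    Nonempty (S ⊗[A₁] M ≃ₗ[S] S) := by
  let e : S ⊗[A₁] M := ∑ i ∈ I, b i ⊗ₜ xs i
  let Ψ : S ⊗[A₁] M →ₗ[S] S := ∑ j ∈ J, c j • Module.Dual.baseChange S (θs j)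
  have hΨ : Ψ e = ∑ i ∈ I, ∑ j ∈ J, b i * c j * algebraMap A₁ S (θs j (xs i)) := by
    simp only [Ψ, e, map_sum, LinearMap.sum_apply, LinearMap.smul_apply, smul_eq_mul]
    exact Finset.sum_congr rfl fun i _ => Finset.sum_congr rfl fun j _ => by
      rw [Module.Dual.baseChange_apply_tmul, Algebra.smul_def]
      ring
  have hs : Function.Surjective Ψ := fun s => ⟨(s * ↑hu.unit⁻¹) • e, by
    rw [map_smul, hΨ, smul_eq_mul, mul_assoc, hu.val_inv_mul, mul_one]⟩
  exact ⟨LinearEquiv.ofBijective Ψ (Module.Invertible.bijective_of_surjective hs)⟩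

end GrothLib.ExtShGa6
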