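import Mathlib.RingTheory.MvPolynomial.Basic
import Mathlib.RingTheory.AdjoinRoot
import Mathlib.RingTheory.Flat.FaithfullyFlat.Basic
import Mathlib.RingTheory.FinitePresentation
import Mathlib.Algebra.CharP.Frobenius

/-!
# All iterated `p`-th roots, and their finite stages
-/

set_option autoImplicit false
set_option linter.all false
set_option synthInstance.maxHeartbeats 200000

universe u

open Polynomial

noncomputable section

namespace GrothLib.ExtShGa6

/-- Finitely many roots exist in a faithfully flat finite free algebra. -/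
theorem exists_roots (A : Type u) [CommRing A] (q : ℕ) (hq : 0 < q) (l : List A) :
    ∃ (C : Type u) (_ : CommRing C) (_ : Algebra A C), Module.Free A C ∧ Module.Finite A C ∧
      Algebra.FinitePresentation A C ∧ (Nontrivial A → Nontrivial C) ∧ ∀ a ∈ l, ∃ z : C, z ^ q = algebraMap A C a := by
  induction l with
  | nil => exact ⟨A, inferInstance, inferInstance, inferInstance, inferInstance, inferInstance, id, by simp⟩
  | cons a l ih =>
    obtain ⟨C, _, _, hfree, hfin, hfp, hnt, hl⟩ := ih
    let P : Polynomial C := X ^ q - Polynomial.C (algebraMap A C a)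
    have hP : P.Monic := monic_X_pow_sub_C _ hq.ne'
    haveI : Module.Free C (AdjoinRoot P) := hP.free_adjoinRoot
    haveI : Module.Finite C (AdjoinRoot P) := hP.finite_adjoinRoot
    haveI : Algebra.FinitePresentation C (AdjoinRoot P) := inferInstance
    refine ⟨AdjoinRoot P, inferInstance, inferInstance, Module.Free.trans (R := A) (S := C), Module.Finite.trans C _,
      Algebra.FinitePresentation.trans A C (AdjoinRoot P), fun h => ?_, fun b hb => ?_⟩
    · haveI := hnt h
      haveI : Nonempty (Fin (AdjoinRoot.powerBasis' hP).dim) := by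
        rw [AdjoinRoot.powerBasis'_dim, natDegree_X_pow_sub_C]; exact ⟨⟨0, hq⟩⟩
      exact ⟨⟨(AdjoinRoot.powerBasis' hP).basis (Classical.arbitrary _), 0,
        (AdjoinRoot.powerBasis' hP).basis.ne_zero _⟩⟩
    · rcases List.mem_cons.1 hb with rfl | hb
      · refine ⟨AdjoinRoot.root P, ?_⟩
        have h := AdjoinRoot.eval₂_root P
        rwa [eval₂_sub, eval₂_X_pow, eval₂_C, sub_eq_zero] at h
      · obtain ⟨z, hz⟩ := hl b hb
        exact ⟨algebraMap C _ z, by rw [← map_pow, hz]; rfl⟩

variable (p : ℕ) (A : Type u) [CommRing A]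

/-- The polynomial ring on the symbols for the roots. -/
abbrev RootPoly := MvPolynomial (ℕ × A) A

/-- The relations of the roots. -/
def rootRel : (A ⊕ (ℕ × A)) → RootPoly A :=
  Sum.elim (fun a => MvPolynomial.X (0, a) ^ p - MvPolynomial.C a)
    fun na => MvPolynomial.X (na.1 + 1, na.2) ^ p - MvPolynomial.X (na.1, na.2)

/-- Their ideal. -/
def rootIdeal : Ideal (RootPoly A) := Ideal.span (Set.range (rootRel p A))

/-- Frobenius is surjective after adjoining all the roots. -/
theorem exists_pow_sub_mem [Fact p.Prime] (hp : (p : A) = 0) (f : RootPoly A) :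
    ∃ g, g ^ p - f ∈ rootIdeal p A := by
  have hmem : ∀ r, rootRel p A r ∈ rootIdeal p A := fun r => Ideal.subset_span (Set.mem_range_self r)
  have hadd : ∀ g g' : RootPoly A, ∃ r, (g + g') ^ p = g ^ p + g' ^ p + (p : RootPoly A) * r := fun g g' => by
    obtain ⟨r, hr⟩ := exists_add_pow_prime_eq (Fact.out : p.Prime) g g'
    exact ⟨g * g' * r, by rw [hr]; ring⟩
  have hp' : (p : RootPoly A) = 0 := by rw [← map_natCast MvPolynomial.C, hp, map_zero]
  induction f using MvPolynomial.induction_on with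
  | C a => exact ⟨MvPolynomial.X (0, a), hmem (Sum.inl a)⟩
  | add f f' hf hf' =>
    obtain ⟨g, hg⟩ := hf
    obtain ⟨g', hg'⟩ := hf'
    obtain ⟨r, hr⟩ := hadd g g'
    refine ⟨g + g', ?_⟩
    rw [hr, hp', zero_mul, add_zero, add_sub_add_comm]
    exact add_mem hg hg'
  | mul_X f na hf =>
    obtain ⟨g, hg⟩ := hf
    obtain ⟨n, a⟩ := na
    refine ⟨g * MvPolynomial.X (n + 1, a), ?_⟩
    rw [show (g * MvPolynomial.X (n + 1, a)) ^ p - f * MvPolynomial.X (n, a) =
      (g ^ p - f) * MvPolynomial.X (n + 1, a) ^ p + f * rootRel p A (Sum.inr (n, a)) by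
      simp only [rootRel, Sum.elim_inr]; ring]
    exact add_mem (Ideal.mul_mem_right _ _ hg) (Ideal.mul_mem_left _ _ (hmem _))

/-- Finitely many members of the ideal die in a finite stage. -/
theorem exists_stage (hp : 0 < p) (s : Finset (RootPoly A)) (hs : ∀ f ∈ s, f ∈ (rootIdeal p A).radical) :
    ∃ (C : Type u) (_ : CommRing C) (_ : Algebra A C) (φ : RootPoly A →ₐ[A] C), Module.Free A C ∧ Module.Finite A C ∧
      Algebra.FinitePresentation A C ∧ (Nontrivial A → Nontrivial C) ∧
      ∀ f ∈ s, IsNilpotent (φ f) ∧ (f ∈ rootIdeal p A → φ f = 0) := by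
  classical
  have h : ∀ f : RootPoly A, ∃ (k : ℕ) (t : Finset (A ⊕ (ℕ × A))),
      f ∈ s → f ^ k ∈ Ideal.span ((rootRel p A) '' ↑t) ∧ (f ∈ rootIdeal p A → k = 1) := by
    intro f
    by_cases hf : f ∈ s
    · obtain ⟨k, hk, hk1⟩ : ∃ k, f ^ k ∈ rootIdeal p A ∧ (f ∈ rootIdeal p A → k = 1) := by
        by_cases hI : f ∈ rootIdeal p A
        · exact ⟨1, by rwa [pow_one], fun _ => rfl⟩
        · obtain ⟨k, hk⟩ := hs f hf
          exact ⟨k, hk, fun h => absurd h hI⟩
      obtain ⟨T, hT, hkT⟩ := Submodule.mem_span_finite_of_mem_span hk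
      have hT' : ↑T ⊆ rootRel p A '' Set.univ := by rwa [Set.image_univ]
      obtain ⟨t, -, htT⟩ := Finset.subset_set_image_iff.1 hT'
      exact ⟨k, t, fun _ => ⟨by rw [← Finset.coe_image, htT]; exact hkT, hk1⟩⟩
    · exact ⟨0, ∅, fun h => absurd h hf⟩
  choose k t ht using h
  let all := s.biUnion t
  let idx : A ⊕ (ℕ × A) → ℕ × A := Sum.elim (fun a => (0, a)) fun na => (na.1 + 1, na.2)
  let N := all.sup fun r => (idx r).1
  let F := all.image fun r => (idx r).2
  obtain ⟨C, _, _, hfree, hfin, hfp, hnt, hz⟩ := exists_roots A (p ^ (N + 1)) (pow_pos hp _) F.toList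
  choose z hz using fun (a : A) (ha : a ∈ F) => hz a (Finset.mem_toList.2 ha)
  let val : ℕ × A → C := fun na => if ha : na.2 ∈ F then z na.2 ha ^ p ^ (N - na.1) else 0
  refine ⟨C, inferInstance, inferInstance, MvPolynomial.aeval val, hfree, hfin, hfp, hnt, fun f hf => ?_⟩
  have hle : Ideal.span ((rootRel p A) '' ↑(t f)) ≤ RingHom.ker (MvPolynomial.aeval val).toRingHom := by
    refine Ideal.span_le.2 ?_
    rintro _ ⟨r, hr, rfl⟩
    have hr' : r ∈ all := Finset.mem_biUnion.2 ⟨f, hf, hr⟩
    have hN : (idx r).1 ≤ N := Finset.le_sup (f := fun r => (idx r).1) hr'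
    have hF : (idx r).2 ∈ F := Finset.mem_image_of_mem (fun r => (idx r).2) hr'
    show MvPolynomial.aeval val (rootRel p A r) = 0
    rcases r with a | ⟨n, a⟩ <;> simp only [idx, Sum.elim_inl, Sum.elim_inr] at hN hF <;>
      simp only [rootRel, Sum.elim_inl, Sum.elim_inr, map_sub, map_pow, MvPolynomial.aeval_X, MvPolynomial.aeval_C, val,
        dif_pos hF, ← pow_mul, ← pow_succ, sub_eq_zero]
    · rw [show N - 0 + 1 = N + 1 by omega]
      exact hz a hF
    · rw [show N - (n + 1) + 1 = N - n by omega]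
  have h0 : MvPolynomial.aeval val (f ^ k f) = 0 := hle (ht f hf).1
  rw [map_pow] at h0
  exact ⟨⟨k f, h0⟩, fun hI => by rwa [(ht f hf).2 hI, pow_one] at h0⟩

end GrothLib.ExtShGa6
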