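import Groth.Agent.Lib.ExtShGa6.Roots
import Groth.Agent.Lib.ExtShGa6.PicWitness
import Groth.Agent.Lib.GaPic6.Main
import Groth.Agent.S13380

/-!
# Splitting cocycles and line bundles in a finite stage of root extraction
-/

set_option autoImplicit false
set_option linter.all false
set_option maxHeartbeats 400000
set_option synthInstance.maxHeartbeats 200000

universe u

open scoped TensorProduct

noncomputable section

namespace GrothLib.ExtShGa6

variable (p : ℕ) [hpr : Fact p.Prime] (A : Type u) [CommRing A] [hA : CharP A p]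
include hpr hA

theorem one_notMem_radical : (1 : RootPoly A) ∉ (rootIdeal p A).radical := by
  classical
  intro h
  haveI : Nontrivial A := CharP.nontrivial_of_char_ne_one (R := A) (Fact.out : p.Prime).ne_one
  obtain ⟨C, _, _, φ, -, -, -, hnt, hs⟩ := exists_stage p A (Fact.out : p.Prime).pos {1}
    (fun f hf => Finset.mem_singleton.1 hf ▸ h)
  haveI := hnt inferInstance
  have := (hs 1 (Finset.mem_singleton_self 1)).1
  rw [map_one] at this
  exact not_isNilpotent_one this

theorem charP_quotient {J : Ideal (RootPoly A)} (hJ : J ≤ (rootIdeal p A).radical) : CharP (RootPoly A ⧸ J) p := by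
  haveI : Nontrivial (RootPoly A ⧸ J) := Ideal.Quotient.nontrivial_iff.2 fun e =>
    one_notMem_radical p A (hJ (e ▸ Submodule.mem_top))
  refine (CharP.charP_iff_prime_eq_zero (Fact.out : p.Prime)).2 ?_
  rw [← map_natCast ((Ideal.Quotient.mk J).comp MvPolynomial.C), CharP.cast_eq_zero, map_zero]

theorem frobenius_quotient_surjective {J : Ideal (RootPoly A)} (hJ : rootIdeal p A ≤ J) [CharP (RootPoly A ⧸ J) p] :
    Function.Surjective (frobenius (RootPoly A ⧸ J) p) := by
  intro a
  obtain ⟨f, rfl⟩ := Ideal.Quotient.mk_surjective a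
  obtain ⟨g, hg⟩ := exists_pow_sub_mem p A (CharP.cast_eq_zero A p) f
  refine ⟨Ideal.Quotient.mk J g, ?_⟩
  rw [frobenius_def, ← map_pow, Ideal.Quotient.mk_eq_mk_iff_sub_mem]
  exact hJ hg

/-- A cocycle splits after adjoining finitely many roots. -/
theorem exists_stage_split (h : MvPolynomial (Fin 2) A) (hu : IsUnit h)
    (h0 : MvPolynomial.aeval ![(MvPolynomial.X 0 : MvPolynomial (Fin 2) A), 0] h = 1)
    (hsymm : MvPolynomial.aeval ![(MvPolynomial.X 1 : MvPolynomial (Fin 2) A), MvPolynomial.X 0] h = h)
    (hcoc : MvPolynomial.aeval ![(MvPolynomial.X 1 : MvPolynomial (Fin 3) A), MvPolynomial.X 2] h *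
        MvPolynomial.aeval ![MvPolynomial.X 0, MvPolynomial.X 1 + MvPolynomial.X 2] h =
      MvPolynomial.aeval ![MvPolynomial.X 0 + MvPolynomial.X 1, MvPolynomial.X 2] h *
        MvPolynomial.aeval ![MvPolynomial.X 0, MvPolynomial.X 1] h) :
    ∃ (C : Type u) (_ : CommRing C) (_ : Algebra A C), Module.Free A C ∧ Module.Finite A C ∧
      Algebra.FinitePresentation A C ∧ Nontrivial C ∧ ∃ f : Polynomial C, IsUnit f ∧
        Polynomial.aeval (MvPolynomial.X 0 + MvPolynomial.X 1 : MvPolynomial (Fin 2) C) f =
          Polynomial.aeval (MvPolynomial.X 0 : MvPolynomial (Fin 2) C) f *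
            Polynomial.aeval (MvPolynomial.X 1 : MvPolynomial (Fin 2) C) f * MvPolynomial.map (algebraMap A C) h := by
  classical
  let I := rootIdeal p A
  let B := RootPoly A ⧸ I
  haveI : CharP B p := charP_quotient p A Ideal.le_radical
  let q : RootPoly A →+* B := Ideal.Quotient.mk I
  let ι : A →+* B := q.comp MvPolynomial.C
  have hmap : ∀ {n : ℕ} (g : Fin 2 → MvPolynomial (Fin n) A) (P : MvPolynomial (Fin 2) A),
      MvPolynomial.map ι (MvPolynomial.aeval g P) =
        MvPolynomial.aeval (fun k => MvPolynomial.map ι (g k)) (MvPolynomial.map ι P) := by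
    intro n g P
    induction P using MvPolynomial.induction_on with
    | C a => simp
    | add x y hx hy => simp only [map_add, hx, hy]
    | mul_X x k hx => simp only [map_mul, hx, MvPolynomial.aeval_X, MvPolynomial.map_X]
  have hv : ∀ {n : ℕ} (a b : MvPolynomial (Fin n) A),
      (fun k => MvPolynomial.map ι (![a, b] k)) = ![MvPolynomial.map ι a, MvPolynomial.map ι b] := fun a b => by
    funext k; fin_cases k <;> rfl
  have k0 := congrArg (MvPolynomial.map ι) h0
  have k1 := congrArg (MvPolynomial.map ι) hsymm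
  have k2 := congrArg (MvPolynomial.map ι) hcoc
  simp only [map_mul, hmap, hv, map_add, MvPolynomial.map_X, map_zero, map_one] at k0 k1 k2
  obtain ⟨f, hfu, hf⟩ := Groth.Agent.S13380.result p B (frobenius_quotient_surjective p A le_rfl)
    (MvPolynomial.map ι h) (hu.map _) k0 k1 k2
  obtain ⟨F, hF⟩ := Polynomial.map_surjective q Ideal.Quotient.mk_surjective f
  obtain ⟨F', hF'⟩ := Polynomial.map_surjective q Ideal.Quotient.mk_surjective (↑hfu.unit⁻¹ : Polynomial B)
  let D₁ := F * F' - 1
  let D₂ : MvPolynomial (Fin 2) (RootPoly A) := Polynomial.aeval (MvPolynomial.X 0 + MvPolynomial.X 1) F -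
    Polynomial.aeval (MvPolynomial.X 0) F * Polynomial.aeval (MvPolynomial.X 1) F * MvPolynomial.map MvPolynomial.C h
  have hae : ∀ {R S : Type u} [CommRing R] [CommRing S] (χ : R →+* S) (v : MvPolynomial (Fin 2) R) (G : Polynomial R),
      MvPolynomial.map χ (Polynomial.aeval v G) = Polynomial.aeval (MvPolynomial.map χ v) (G.map χ) := by
    intro R S _ _ χ v G
    induction G using Polynomial.induction_on' with
    | add x y hx hy => simp only [map_add, Polynomial.map_add, hx, hy]
    | monomial n r => simp [Polynomial.aeval_monomial, Polynomial.map_monomial]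
  have e₁ : D₁.map q = 0 := by
    rw [Polynomial.map_sub, Polynomial.map_mul, hF, hF', Polynomial.map_one, hfu.mul_val_inv, sub_self]
  have e₂ : MvPolynomial.map q D₂ = 0 := by
    simp only [D₂, map_sub, map_mul, hae, map_add, MvPolynomial.map_X, hF, MvPolynomial.map_map]
    rw [hf]
    exact sub_self _
  let s : Finset (RootPoly A) := D₁.support.image D₁.coeff ∪ D₂.support.image (fun d => D₂.coeff d)
  have hs : ∀ x ∈ s, x ∈ I := fun x hx => by
    rcases Finset.mem_union.1 hx with hx | hx <;> obtain ⟨d, -, rfl⟩ := Finset.mem_image.1 hx <;>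
      rw [← Ideal.Quotient.eq_zero_iff_mem]
    · exact (Polynomial.coeff_map q d).symm.trans (by rw [e₁, Polynomial.coeff_zero])
    · exact (MvPolynomial.coeff_map q D₂ d).symm.trans (by rw [e₂, MvPolynomial.coeff_zero])
  obtain ⟨C, _, _, φ, hfree, hfin, hfp, hnt, hkill⟩ := exists_stage p A (Fact.out : p.Prime).pos s
    fun x hx => Ideal.le_radical (hs x hx)
  refine ⟨C, inferInstance, inferInstance, hfree, hfin, hfp,
    hnt (CharP.nontrivial_of_char_ne_one (R := A) (Fact.out : p.Prime).ne_one), F.map φ.toRingHom, ?_, ?_⟩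
  · refine IsUnit.of_mul_eq_one (F'.map φ.toRingHom) ?_
    rw [← sub_eq_zero, ← Polynomial.map_mul, ← Polynomial.map_one φ.toRingHom, ← Polynomial.map_sub]
    refine Polynomial.ext fun d => ?_
    rw [Polynomial.coeff_map, Polynomial.coeff_zero]
    by_cases hd : d ∈ D₁.support
    · have hx := Finset.mem_union_left (D₂.support.image (fun d => D₂.coeff d)) (Finset.mem_image_of_mem D₁.coeff hd)
      exact (hkill _ hx).2 (hs _ hx)
    · rw [Polynomial.notMem_support_iff.1 hd, map_zero]
  · have z : MvPolynomial.map φ.toRingHom D₂ = 0 := by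
      refine MvPolynomial.ext _ _ fun d => ?_
      rw [MvPolynomial.coeff_map, MvPolynomial.coeff_zero]
      by_cases hd : d ∈ D₂.support
      · have hx := Finset.mem_union_right (D₁.support.image D₁.coeff) (Finset.mem_image_of_mem (fun d => D₂.coeff d) hd)
        exact (hkill _ hx).2 (hs _ hx)
      · rw [MvPolynomial.notMem_support_iff.1 hd, map_zero]
    simp only [D₂, map_sub, map_mul, hae, map_add, MvPolynomial.map_X, MvPolynomial.map_map, sub_eq_zero] at z
    rw [show φ.toRingHom.comp MvPolynomial.C = algebraMap A C from φ.comp_algebraMap] at z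
    exact z

open Polynomial in
/-- An invertible module on the line, trivial at the origin, is trivial after adjoining finitely many roots. -/
theorem exists_stage_pic (M : Type u) [AddCommGroup M] [Module A[X] M] [Module.Invertible A[X] M]
    (π : M →+ A) (hπ : ∀ (P : A[X]) m, π (P • m) = P.eval 0 * π m) (m₁ : M) (hm₁ : π m₁ = 1) :
    ∃ (C : Type u) (_ : CommRing C) (_ : Algebra A C), Module.Free A C ∧ Module.Finite A C ∧
      Algebra.FinitePresentation A C ∧ Nontrivial C ∧
        (letI := (mapRingHom (algebraMap A C)).toAlgebra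
         Nonempty (C[X] ⊗[A[X]] M ≃ₗ[C[X]] C[X])) := by
  classical
  let J := (rootIdeal p A).radical
  let B := RootPoly A ⧸ J
  haveI : CharP B p := charP_quotient p A le_rfl
  haveI : _root_.IsReduced B := (Ideal.isRadical_iff_quotient_reduced J).1 (Ideal.radical_isRadical _)
  have hF := frobenius_quotient_surjective p A (J := J) Ideal.le_radical
  let q : RootPoly A →+* B := Ideal.Quotient.mk J
  obtain ⟨φ₀, x₀, hx₀⟩ := exists_form M π hπ m₁ hm₁
  obtain ⟨I₁, I₂, xs, b, θs, c, hu⟩ := exists_witness (q.comp MvPolynomial.C)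
    (GrothLib.GaPic6.isSeminormalRing_of_surjective_frobenius p B hF) φ₀ x₀ hx₀
  choose lift hlift using Polynomial.map_surjective q Ideal.Quotient.mk_surjective
  let W : (RootPoly A)[X] := ∑ i ∈ I₁, ∑ j ∈ I₂, lift (b i) * lift (c j) * (θs j (xs i)).map MvPolynomial.C
  have hW : W.map q = ∑ i ∈ I₁, ∑ j ∈ I₂, b i * c j * (θs j (xs i)).map (q.comp MvPolynomial.C) := by
    simp only [W, Polynomial.map_sum, Polynomial.map_mul, hlift, Polynomial.map_map]
  let D := W * lift (↑hu.unit⁻¹ : B[X]) - 1
  have hD : D.map q = 0 := by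
    rw [Polynomial.map_sub, Polynomial.map_mul, hW, hlift, Polynomial.map_one, hu.mul_val_inv, sub_self]
  obtain ⟨C, _, _, φ, hfree, hfin, hfp, hnt, hkill⟩ := exists_stage p A (Fact.out : p.Prime).pos
    (D.support.image D.coeff) fun x hx => by
      obtain ⟨d, -, rfl⟩ := Finset.mem_image.1 hx
      exact Ideal.Quotient.eq_zero_iff_mem.1 ((Polynomial.coeff_map q d).symm.trans (by rw [hD, Polynomial.coeff_zero]))
  refine ⟨C, inferInstance, inferInstance, hfree, hfin, hfp,
    hnt (CharP.nontrivial_of_char_ne_one (R := A) (Fact.out : p.Prime).ne_one), ?_⟩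
  letI := (mapRingHom (algebraMap A C)).toAlgebra
  have hn : IsNilpotent (D.map φ.toRingHom) := Polynomial.isNilpotent_iff.2 fun d => by
    rw [Polynomial.coeff_map]
    by_cases hd : d ∈ D.support
    · exact (hkill _ (Finset.mem_image_of_mem _ hd)).1
    · rw [Polynomial.notMem_support_iff.1 hd, map_zero]; exact IsNilpotent.zero
  have hWu : IsUnit (W.map φ.toRingHom) := by
    refine isUnit_of_mul_isUnit_left (y := (lift (↑hu.unit⁻¹ : B[X])).map φ.toRingHom) ?_
    rw [← Polynomial.map_mul, show W * lift (↑hu.unit⁻¹ : B[X]) = 1 + D by ring, Polynomial.map_add, Polynomial.map_one]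
    exact hn.isUnit_one_add
  refine nonempty_equiv_of_witness I₁ I₂ xs (fun i => (lift (b i)).map φ.toRingHom) θs
    (fun j => (lift (c j)).map φ.toRingHom) ?_
  convert hWu using 1
  simp only [W, Polynomial.map_sum, Polynomial.map_mul, Polynomial.map_map]
  rw [show φ.toRingHom.comp MvPolynomial.C = algebraMap A C from φ.comp_algebraMap]
  rfl

end GrothLib.ExtShGa6
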